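import Cfsg.Agent.Fischer.Coincidences.Tables

/-!
The matched tables: each is a bijection of points respecting orthogonality.
-/

set_option autoImplicit false

namespace Cfsg.Lib.Fischer.Coinc

open Cfsg.Lib.PrimeGraph (KQuad)

/-- A vector over two elements by its code. -/
def vecTwo (n c : ℕ) : Fin n → ZMod 2 := fun i => ((c / 2 ^ i.val : ℕ) : ZMod 2)

/-- A vector over three elements by its code. -/
def vecThree (n c : ℕ) : Fin n → ZMod 3 := fun i => ((c / 3 ^ i.val : ℕ) : ZMod 3)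

/-- A vector over four elements by its code. -/
def vecFour (n c : ℕ) : Fin n → KQuad := fun i => KQuad.ofCode (c / 4 ^ i.val)

/-- The code of a vector over two elements in dimension six. -/
def codeTwo (v : Fin 6 → ZMod 2) : ℕ :=
  (v 0).val + 2 * (v 1).val + 4 * (v 2).val + 8 * (v 3).val + 16 * (v 4).val + 32 * (v 5).val

/-- The code of a vector over three elements in dimension five. -/
def codeThree (v : Fin 5 → ZMod 3) : ℕ :=
  (v 0).val + 3 * (v 1).val + 9 * (v 2).val + 27 * (v 3).val + 81 * (v 4).val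

/-- The code of a vector over four elements in dimension four. -/
def codeFour (v : Fin 4 → KQuad) : ℕ :=
  (v 0).code.val + 4 * (v 1).code.val + 16 * (v 2).code.val + 64 * (v 3).code.val

/-- The hermitian form in dimension four, expanded. -/
def hermFour (v w : Fin 4 → KQuad) : KQuad :=
  v 0 * (w 0 * w 0) + v 1 * (w 1 * w 1) + v 2 * (w 2 * w 2) + v 3 * (w 3 * w 3)

/-- The norm form with determinant `δ` in dimension five, expanded. -/
def dotFive (δ : ZMod 3) (v w : Fin 5 → ZMod 3) : ZMod 3 :=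
  v 0 * w 0 + v 1 * w 1 + v 2 * w 2 + v 3 * w 3 + δ * v 4 * w 4

/-- The plus form in dimension six. -/
def qPlus (v : Fin 6 → ZMod 2) : ZMod 2 := v 0 * v 1 + v 2 * v 3 + v 4 * v 5

/-- The minus form in dimension six. -/
def qMinus (v : Fin 6 → ZMod 2) : ZMod 2 := v 0 * v 1 + v 2 * v 3 + v 4 * v 4 + v 4 * v 5 + v 5 * v 5

/-- The alternating form of both. -/
def bSix (v w : Fin 6 → ZMod 2) : ZMod 2 :=
  v 0 * w 1 + v 1 * w 0 + v 2 * w 3 + v 3 * w 2 + v 4 * w 5 + v 5 * w 4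

def uPt (i : Fin 45) : Fin 4 → KQuad := vecFour 4 (pick uSrc 8 i.val)
def uNum (v : Fin 4 → KQuad) : Fin 45 := ⟨pick uIdx 6 (codeFour v) % 45, Nat.mod_lt _ (by norm_num)⟩
def rPt (i : Fin 45) : Fin 5 → ZMod 3 := vecThree 5 (pick rTgt 8 i.val)
def rNum (v : Fin 5 → ZMod 3) : Fin 45 := ⟨pick rIdx 6 (codeThree v) % 45, Nat.mod_lt _ (by norm_num)⟩
def mPt (i : Fin 36) : Fin 6 → ZMod 2 := vecTwo 6 (pick mSrc 6 i.val)
def mNum (v : Fin 6 → ZMod 2) : Fin 36 := ⟨pick mIdx 6 (codeTwo v) % 36, Nat.mod_lt _ (by norm_num)⟩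
def nPt (i : Fin 36) : Fin 5 → ZMod 3 := vecThree 5 (pick nTgt 8 i.val)
def nNum (v : Fin 5 → ZMod 3) : Fin 36 := ⟨pick nIdx 6 (codeThree v) % 36, Nat.mod_lt _ (by norm_num)⟩
def pPt (i : Fin 28) : Fin 6 → ZMod 2 := vecTwo 6 (pick pSrc 6 i.val)
def pNum (v : Fin 6 → ZMod 2) : Fin 28 := ⟨pick pIdx 5 (codeTwo v) % 28, Nat.mod_lt _ (by norm_num)⟩
def sPt (i : Fin 28) : Finset (Fin 8) := Finset.univ.filter fun j => pick sTgt 8 i.val / 2 ^ j.val % 2 = 1
def sNum (s : Finset (Fin 8)) : Fin 28 := ⟨pick sIdx 5 (∑ j ∈ s, 2 ^ j.val) % 28, Nat.mod_lt _ (by norm_num)⟩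

theorem uPt_iso : ∀ i, uPt i ≠ 0 ∧ hermFour (uPt i) (uPt i) = 0 := by decide +kernel

theorem uNum_spec : ∀ v : Fin 4 → KQuad, v ≠ 0 → hermFour v v = 0 →
    ∃ a : KQuad, a ≠ 0 ∧ v = a • uPt (uNum v) := by decide +kernel

theorem uNum_pt : ∀ i, ∀ a : KQuad, a ≠ 0 → uNum (a • uPt i) = i := by decide +kernel

theorem rPt_one : ∀ i, dotFive 1 (rPt i) (rPt i) = 1 := by decide +kernel

theorem rNum_spec : ∀ v : Fin 5 → ZMod 3, dotFive 1 v v = 1 → ∃ a : ZMod 3, a ≠ 0 ∧ v = a • rPt (rNum v) := by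
  decide +kernel

theorem rNum_pt : ∀ i, ∀ a : ZMod 3, a ≠ 0 → rNum (a • rPt i) = i := by decide +kernel

theorem ur_comm : ∀ i j : Fin 45, i ≠ j → (hermFour (uPt i) (uPt j) = 0 ↔ dotFive 1 (rPt i) (rPt j) = 0) := by
  decide +kernel

theorem mPt_one : ∀ i, qMinus (mPt i) = 1 := by decide +kernel

theorem mNum_spec : ∀ v, qMinus v = 1 → v = mPt (mNum v) := by decide +kernel

theorem mNum_pt : ∀ i, mNum (mPt i) = i := by decide +kernel

theorem nPt_one : ∀ i, dotFive (-1) (nPt i) (nPt i) = 1 := by decide +kernel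

theorem nNum_spec : ∀ v : Fin 5 → ZMod 3, dotFive (-1) v v = 1 → ∃ a : ZMod 3, a ≠ 0 ∧ v = a • nPt (nNum v) := by
  decide +kernel

theorem nNum_pt : ∀ i, ∀ a : ZMod 3, a ≠ 0 → nNum (a • nPt i) = i := by decide +kernel

theorem mn_comm : ∀ i j : Fin 36, i ≠ j → (bSix (mPt i) (mPt j) = 0 ↔ dotFive (-1) (nPt i) (nPt j) = 0) := by
  decide +kernel

theorem pPt_one : ∀ i, qPlus (pPt i) = 1 := by decide +kernel

theorem pNum_spec : ∀ v, qPlus v = 1 → v = pPt (pNum v) := by decide +kernel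

theorem pNum_pt : ∀ i, pNum (pPt i) = i := by decide +kernel

theorem sPt_two : ∀ i, (sPt i).card = 2 := by decide +kernel

theorem sNum_spec : ∀ s : Finset (Fin 8), s.card = 2 → s = sPt (sNum s) := by decide +kernel

theorem sNum_pt : ∀ i, sNum (sPt i) = i := by decide +kernel

theorem ps_comm : ∀ i j : Fin 28, i ≠ j → (bSix (pPt i) (pPt j) = 0 ↔ Disjoint (sPt i) (sPt j)) := by
  decide +kernel

/-- Pairs of six letters as vectors in dimension four. -/
def pairVec (s : Finset (Fin 6)) : Fin 4 → ZMod 2 := fun i =>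
  (if i.castLE (by norm_num) ∈ s then 1 else 0) + if 5 ∈ s then 1 else 0

/-- The form on them. -/
def pairForm (v w : Fin 4 → ZMod 2) : ZMod 2 :=
  v 0 * (w 1 + w 2 + w 3) + v 1 * (w 0 + w 2 + w 3) + v 2 * (w 0 + w 1 + w 3) + v 3 * (w 0 + w 1 + w 2)

theorem pairVec_ne : ∀ s : Finset (Fin 6), s.card = 2 → pairVec s ≠ 0 := by decide +kernel

theorem pairVec_surj : ∀ v : Fin 4 → ZMod 2, v ≠ 0 → ∃ s : Finset (Fin 6), s.card = 2 ∧ pairVec s = v := by
  decide +kernel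

theorem pairVec_inj : ∀ s t : Finset (Fin 6), s.card = 2 → t.card = 2 → pairVec s = pairVec t → s = t := by
  decide +kernel

theorem pairVec_comm : ∀ s t : Finset (Fin 6), s.card = 2 → t.card = 2 → s ≠ t →
    (Disjoint s t ↔ pairForm (pairVec s) (pairVec t) = 0) := by decide +kernel

end Cfsg.Lib.Fischer.Coinc
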