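import Cfsg.Agent.Fischer.Coincidences.SixForms

/-!
The three small coincidences among the kinds of graphs: pairs of six letters are symplectic points in dimension four,
unitary points in dimension four are reflections in dimension five, orthogonal points in dimension six are pairs of
eight letters or reflections in dimension five.
-/

set_option autoImplicit false

namespace Cfsg.Lib.Fischer.Coinc

open Cfsg.Lib.PrimeGraph (KQuad)
open Cfsg.Lib.Fischer.Two

universe u

variable {G : Type u} [Group G] {S : Set G}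

/-- Relabelling along matched tables of representatives. -/
theorem coords_table {F V F' V' : Type} [Field F] [AddCommGroup V] [Module F V] [Field F'] [AddCommGroup V']
    [Module F' V'] {P : V → Prop} {β : V → V → F} {f : G → V} {P' : V' → Prop} {β' : V' → V' → F'}
    (hc : Coords S P β f) {N : ℕ} (src : Fin N → V) (tgt : Fin N → V') (num : V → Fin N) (num' : V' → Fin N)
    (hP : ∀ i, P (src i)) (hP' : ∀ i, P' (tgt i))
    (h1 : ∀ v, P v → ∃ a : F, a ≠ 0 ∧ v = a • src (num v)) (h2 : ∀ i (a : F), a ≠ 0 → num (a • src i) = i)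
    (h3 : ∀ w, P' w → ∃ a : F', a ≠ 0 ∧ w = a • tgt (num' w))
    (h4 : ∀ i (a : F'), a ≠ 0 → num' (a • tgt i) = i) (h5 : ∀ i, tgt i ≠ 0)
    (hs : ∀ (a b : F) v w, a ≠ 0 → b ≠ 0 → (β (a • v) (b • w) = 0 ↔ β v w = 0))
    (hb : ∀ i j, i ≠ j → (β (src i) (src j) = 0 ↔ β' (tgt i) (tgt j) = 0)) :
    Coords S P' β' (fun x => tgt (num (f x))) := by
  have hfib : ∀ x ∈ S, ∀ y ∈ S, num (f x) = num (f y) → x = y := fun x hx y hy e => by
    obtain ⟨a, ha, ea⟩ := h1 _ (hc.mem x hx)
    obtain ⟨b, _, eb⟩ := h1 _ (hc.mem y hy)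
    refine hc.inj x hx y hy (b * a⁻¹) ?_
    conv_rhs => rw [ea, e, smul_smul, mul_assoc, inv_mul_cancel₀ ha, mul_one]
    exact eb
  refine ⟨fun x _ => hP' _, fun w hw => ?_, fun x hx y hy a e => hfib x hx y hy ?_, fun x hx y hy hne => ?_⟩
  · obtain ⟨a, ha, e⟩ := h3 w hw
    obtain ⟨x, hx, b, hb0, eb⟩ := hc.surj _ (hP (num' w))
    refine ⟨x, hx, a, ha, ?_⟩
    have : f x = b⁻¹ • src (num' w) := by rw [eb, inv_smul_smul₀ hb0]
    show w = a • tgt (num (f x))
    rw [this, h2 _ _ (inv_ne_zero hb0)]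
    exact e
  · have ha : a ≠ 0 := fun h => h5 (num (f y)) (by
      have e' : tgt (num (f y)) = a • tgt (num (f x)) := e
      rw [e', h, zero_smul])
    have := congrArg num' (e : tgt (num (f y)) = a • tgt (num (f x)))
    rw [h4 _ _ ha, ← one_smul F' (tgt (num (f y))), h4 _ _ one_ne_zero] at this
    exact this.symm
  · obtain ⟨a, ha, ea⟩ := h1 _ (hc.mem x hx)
    obtain ⟨b, hb0, eb⟩ := h1 _ (hc.mem y hy)
    rw [hc.comm x hx y hy hne]
    conv_lhs => rw [ea, eb, hs _ _ _ _ ha hb0]
    exact hb _ _ fun e => hne (hfib x hx y hy e)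

theorem symLike_six (h : SymLike S 6) : SpLike S 4 := by
  obtain ⟨f, hbij, hcomm⟩ := h
  set M : Matrix (Fin 4) (Fin 4) (ZMod 2) := Matrix.of fun i j => if i = j then 0 else 1 with hM
  have hB : ∀ v w, Matrix.toBilin' M v w = pairForm v w := fun v w => by
    simp [hM, Matrix.toBilin'_apply, Fin.sum_univ_four, pairForm]
    ring
  refine ⟨Matrix.toBilin' M, fun v => ?_, LinearMap.BilinForm.nondegenerate_toBilin'_of_det_ne_zero' M
    (by decide +kernel), fun x => pairVec (f x), fun x hx => pairVec_ne _ (hbij.mapsTo hx), fun v hv => ?_,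
    fun x hx y hy a e => ?_, fun x hx y hy hne => ?_⟩
  · rw [hB]
    exact (by decide +kernel : ∀ v, pairForm v v = 0) v
  · obtain ⟨s, hs, rfl⟩ := pairVec_surj v hv
    obtain ⟨x, hx, rfl⟩ := hbij.surjOn (show s ∈ {s : Finset (Fin 6) | s.card = 2} from hs)
    exact ⟨x, hx, 1, one_ne_zero, (one_smul _ _).symm⟩
  · rcases bit a with rfl | rfl
    · exact absurd (e.trans (zero_smul _ _)) (pairVec_ne _ (hbij.mapsTo hy))
    · exact hbij.injOn hx hy (pairVec_inj _ _ (hbij.mapsTo hx) (hbij.mapsTo hy) (e.trans (one_smul _ _)).symm)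
  · show _ ↔ Matrix.toBilin' M _ _ = 0
    rw [hB, hcomm x hx y hy hne]
    exact pairVec_comm _ _ (hbij.mapsTo hx) (hbij.mapsTo hy) fun e => hne (hbij.injOn hx hy e)

theorem rLike_five {δ : ZMod 3} (hδ : δ ≠ 0) {g : G → Fin 5 → ZMod 3}
    (hg : Coords S (fun v => dotFive δ v v = 1) (dotFive δ) g) : RLike S 5 δ := by
  have hB : ∀ v w, Matrix.toBilin' (Matrix.diagonal ![1, 1, 1, 1, δ]) v w = dotFive δ v w := fun v w => by
    simp [Matrix.toBilin'_apply, Fin.sum_univ_five, dotFive, mul_comm δ]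
  refine ⟨Matrix.toBilin' (Matrix.diagonal ![1, 1, 1, 1, δ]), ⟨fun v w => ?_⟩,
    LinearMap.BilinForm.nondegenerate_toBilin'_of_det_ne_zero' _ ?_, ?_, g, ?_⟩
  · rw [hB, hB, dotFive, dotFive]; ring
  · rw [Matrix.det_diagonal, Fin.prod_univ_five]; simpa using hδ
  · rw [LinearMap.BilinForm.toMatrix'_toBilin', Matrix.det_diagonal, Fin.prod_univ_five]; simp
  · simpa only [hB] using hg

theorem uLike_four (h : ULike S 4) : RLike S 5 1 := by
  obtain ⟨f, hf⟩ := h
  have hh : ∀ v w : Fin 4 → KQuad, herm v w = hermFour v w := fun v w => by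
    simp [herm, hermFour, Fin.sum_univ_four, sq]
  refine rLike_five one_ne_zero (coords_table hf uPt rPt uNum rNum
    (fun i => ⟨(uPt_iso i).1, (hh _ _).trans (uPt_iso i).2⟩) rPt_one
    (fun v hv => uNum_spec v hv.1 ((hh v v).symm.trans hv.2)) uNum_pt rNum_spec rNum_pt
    (fun i e => ?_) (fun a b v w ha hb => ?_) fun i j hij => ?_)
  · have := rPt_one i
    rw [e] at this
    exact absurd this (by simp [dotFive])
  · have : herm (a • v) (b • w) = a * b ^ 2 * herm v w := by
      simp only [herm, Finset.mul_sum, Pi.smul_apply, smul_eq_mul]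
      exact Finset.sum_congr rfl fun i _ => by ring
    rw [this]
    simp [ha, hb]
  · rw [hh]
    exact ur_comm i j hij

theorem oLike_six (h : OLike S 6) : SymLike S 8 ∨ RLike S 5 (-1) := by
  obtain ⟨Q, hN, f, hf⟩ := h
  obtain ⟨E, hE, hQ⟩ := exists_std hN
  have hcomm : ∀ x ∈ S, ∀ y ∈ S, x ≠ y → (Commute x y ↔ bSix (E.symm (f x)) (E.symm (f y)) = 0) :=
    fun x hx y hy hne => by
      rw [← hE, E.apply_symm_apply, E.apply_symm_apply, QuadraticMap.polarBilin_apply_apply]
      exact hf.comm x hx y hy hne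
  have htr : ∀ {q : (Fin 6 → ZMod 2) → ZMod 2}, (∀ v, Q (E v) = q v) →
      Coords S (fun v => q v = 1) bSix (fun x => E.symm (f x)) := fun {q} hq =>
    ⟨fun x hx => by rw [← hq, E.apply_symm_apply]; exact hf.mem x hx,
      fun v hv => by
        obtain ⟨x, hx, a, ha, e⟩ := hf.surj (E v) (by rw [hq]; exact hv)
        exact ⟨x, hx, a, ha, by rw [← map_smul, ← e, E.symm_apply_apply]⟩,
      fun x hx y hy a e => hf.inj x hx y hy a (E.symm.injective (by rw [map_smul]; exact e)), hcomm⟩
  rcases hQ with hQ | hQ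
  · left
    have hc := htr hQ
    refine ⟨fun x => sPt (pNum (E.symm (f x))), ⟨fun x _ => sPt_two _, fun x hx y hy e => ?_, fun s hs => ?_⟩,
      fun x hx y hy hne => ?_⟩
    · refine label_inj hc hx hy ?_
      show E.symm (f x) = E.symm (f y)
      have e' := congrArg sNum e
      simp only [sNum_pt] at e'
      rw [pNum_spec _ (hc.mem x hx), pNum_spec _ (hc.mem y hy), e']
    · obtain ⟨x, hx, e⟩ := exists_pre hc (pPt_one (sNum s))
      refine ⟨x, hx, ?_⟩
      show sPt (pNum (E.symm (f x))) = s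
      rw [show E.symm (f x) = pPt (sNum s) from e, pNum_pt, ← sNum_spec s hs]
    · have hij : pNum (E.symm (f x)) ≠ pNum (E.symm (f y)) := fun e => hne (label_inj hc hx hy (by
        show E.symm (f x) = E.symm (f y)
        rw [pNum_spec _ (hc.mem x hx), pNum_spec _ (hc.mem y hy), e]))
      rw [hcomm x hx y hy hne, ← ps_comm _ _ hij, ← pNum_spec _ (hc.mem x hx), ← pNum_spec _ (hc.mem y hy)]
  · right
    refine rLike_five (by decide) (coords_table (htr hQ) mPt nPt mNum nNum mPt_one nPt_one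
      (fun v hv => ⟨1, one_ne_zero, by rw [one_smul]; exact mNum_spec v hv⟩)
      (fun i a ha => by rw [ne_zero_iff.1 ha, one_smul]; exact mNum_pt i) nNum_spec nNum_pt
      (fun i e => ?_) (fun a b v w ha hb => by rw [ne_zero_iff.1 ha, ne_zero_iff.1 hb, one_smul, one_smul])
      mn_comm)
    have := nPt_one i
    rw [e] at this
    exact absurd this (by simp [dotFive])

theorem coincidences : Coincidences.{u} := fun _ _ _ => ⟨symLike_six, uLike_four, oLike_six⟩

end Cfsg.Lib.Fischer.Coinc
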