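import Cfsg.Agent.Fischer.Coincidences.Checks

/-!
A nondegenerate quadratic form over two elements in dimension six is the plus form or the minus form.
-/

set_option autoImplicit false

namespace Cfsg.Lib.Fischer.Coinc

open Cfsg.Lib.Fischer.Two
open Cfsg.Lib.Fischer.OExcl (polar_alt map_add' exists_off)

variable {Q : QuadraticForm (ZMod 2) (Fin 6 → ZMod 2)}

local notation "β" => QuadraticMap.polarBilin Q

theorem exists_singular {k : ℕ} (hk : k ≤ 3) (L : Fin k → (Fin 6 → ZMod 2) →ₗ[ZMod 2] ZMod 2) :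
    ∃ v, v ≠ 0 ∧ (∀ i, L i v = 0) ∧ Q v = 0 := by
  obtain ⟨v, hv, hv0⟩ := exists_off L ⊥ (by rw [finrank_bot]; omega)
  have hv0' : v ≠ 0 := fun e => hv0 (e ▸ Submodule.zero_mem _)
  rcases bit (Q v) with h | h
  · exact ⟨v, hv0', hv, h⟩
  obtain ⟨w, hw, hwU⟩ := exists_off (Fin.cons (β v) L) (Submodule.span (ZMod 2) {v}) (by
    have h1 : Module.finrank (ZMod 2) (Submodule.span (ZMod 2) ({v} : Set (Fin 6 → ZMod 2))) ≤ 1 :=
      (finrank_span_le_card _).trans (by simp)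
    omega)
  have hvw : β v w = 0 := by simpa using hw 0
  have hLw : ∀ i, L i w = 0 := fun i => by simpa using hw i.succ
  rcases bit (Q w) with h' | h'
  · exact ⟨w, fun e => hwU (e ▸ Submodule.zero_mem _), hLw, h'⟩
  refine ⟨v + w, fun e => hwU ?_, fun i => by rw [map_add, hv, hLw, add_zero],
    by rw [map_add', h, h', hvw]; rfl⟩
  rw [← (eq_iff_add v w).2 e]
  exact Submodule.mem_span_singleton_self v

/-- A vector projected to the perp of a hyperbolic pair. -/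
def proj (Q : QuadraticForm (ZMod 2) (Fin 6 → ZMod 2)) (e f z : Fin 6 → ZMod 2) : Fin 6 → ZMod 2 :=
  z + QuadraticMap.polarBilin Q f z • e + QuadraticMap.polarBilin Q e z • f

theorem proj_spec {e f : Fin 6 → ZMod 2} (h : β e f = 1) (z : Fin 6 → ZMod 2) :
    β e (proj Q e f z) = 0 ∧ β f (proj Q e f z) = 0 ∧
      ∀ u, β e u = 0 → β f u = 0 → β u (proj Q e f z) = β u z := by
  have hA : (β).IsAlt := polar_alt
  have hfe : β f e = 1 := (alt_symm hA f e).trans h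
  refine ⟨?_, ?_, fun u h1 h2 => ?_⟩
  · simp [-QuadraticMap.polarBilin_apply_apply, proj, h, form_self hA, CharTwo.add_self_eq_zero]
  · simp [-QuadraticMap.polarBilin_apply_apply, proj, hfe, form_self hA, CharTwo.add_self_eq_zero]
  · simp [-QuadraticMap.polarBilin_apply_apply, proj, (alt_symm hA u e).trans h1, (alt_symm hA u f).trans h2]

/-- Three hyperbolic pairs, the last one of either type. -/
theorem exists_frame (hN : (β).Nondegenerate) : ∃ e₁ f₁ e₂ f₂ a b : Fin 6 → ZMod 2,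
    (β e₁ f₁ = 1 ∧ β e₂ f₂ = 1 ∧ β a b = 1) ∧
    (β e₁ e₂ = 0 ∧ β e₁ f₂ = 0 ∧ β f₁ e₂ = 0 ∧ β f₁ f₂ = 0) ∧
    (β e₁ a = 0 ∧ β e₁ b = 0 ∧ β f₁ a = 0 ∧ β f₁ b = 0) ∧
    (β e₂ a = 0 ∧ β e₂ b = 0 ∧ β f₂ a = 0 ∧ β f₂ b = 0) ∧
    (Q e₁ = 0 ∧ Q f₁ = 0 ∧ Q e₂ = 0 ∧ Q f₂ = 0) ∧ (Q a = 0 ∧ Q b = 0 ∨ Q a = 1 ∧ Q b = 1) := by
  have hA : (β).IsAlt := polar_alt
  obtain ⟨e₁, he₁, -, q1⟩ := exists_singular (Q := Q) (show 0 ≤ 3 by norm_num) ![]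
  obtain ⟨z₁, hz₁⟩ := exists_one hN he₁
  obtain ⟨f₁, h11, q2⟩ : ∃ f₁, β e₁ f₁ = 1 ∧ Q f₁ = 0 := by
    rcases bit (Q z₁) with h | h
    · exact ⟨z₁, hz₁, h⟩
    · exact ⟨z₁ + e₁, by rw [map_add, hz₁, form_self hA, add_zero],
        by rw [map_add', h, q1, alt_symm hA, hz₁]; rfl⟩
  obtain ⟨e₂, he₂, hL, q3⟩ := exists_singular (Q := Q) (show 2 ≤ 3 by norm_num) ![β e₁, β f₁]
  have a1 : β e₁ e₂ = 0 := hL 0
  have a2 : β f₁ e₂ = 0 := hL 1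
  obtain ⟨z₂, hz₂⟩ := exists_one hN he₂
  obtain ⟨p1, p2, p3⟩ := proj_spec h11 z₂
  obtain ⟨f₂, b1, b2, h22, q4⟩ : ∃ f₂, β e₁ f₂ = 0 ∧ β f₁ f₂ = 0 ∧ β e₂ f₂ = 1 ∧ Q f₂ = 0 := by
    have hh : β e₂ (proj Q e₁ f₁ z₂) = 1 := (p3 e₂ a1 a2).trans hz₂
    rcases bit (Q (proj Q e₁ f₁ z₂)) with h | h
    · exact ⟨_, p1, p2, hh, h⟩
    · exact ⟨proj Q e₁ f₁ z₂ + e₂, by rw [map_add, p1, a1, add_zero], by rw [map_add, p2, a2, add_zero],
        by rw [map_add, hh, form_self hA, add_zero], by rw [map_add', h, q3, alt_symm hA, hh]; rfl⟩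
  obtain ⟨a, hL', ha⟩ := exists_off ![β e₁, β f₁, β e₂, β f₂] ⊥ (by rw [finrank_bot]; norm_num)
  have c1 : β e₁ a = 0 := hL' 0
  have c2 : β f₁ a = 0 := hL' 1
  have c3 : β e₂ a = 0 := hL' 2
  have c4 : β f₂ a = 0 := hL' 3
  obtain ⟨z₃, hz₃⟩ := exists_one hN (fun e => ha (e ▸ Submodule.zero_mem _) : a ≠ 0)
  obtain ⟨r1, r2, r3⟩ := proj_spec h11 z₃
  obtain ⟨s1, s2, s3⟩ := proj_spec h22 (proj Q e₁ f₁ z₃)
  set b := proj Q e₂ f₂ (proj Q e₁ f₁ z₃)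
  have d1 : β e₁ b = 0 := (s3 e₁ ((alt_symm hA _ _).trans a1) ((alt_symm hA _ _).trans b1)).trans r1
  have d2 : β f₁ b = 0 := (s3 f₁ ((alt_symm hA _ _).trans a2) ((alt_symm hA _ _).trans b2)).trans r2
  have hab : β a b = 1 := (s3 a c3 c4).trans ((r3 a c1 c2).trans hz₃)
  have hba : β b a = 1 := (alt_symm hA b a).trans hab
  rcases bit (Q a) with ha' | ha' <;> rcases bit (Q b) with hb' | hb'
  · exact ⟨e₁, f₁, e₂, f₂, a, b, ⟨h11, h22, hab⟩, ⟨a1, b1, a2, b2⟩, ⟨c1, d1, c2, d2⟩, ⟨c3, s1, c4, s2⟩,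
      ⟨q1, q2, q3, q4⟩, Or.inl ⟨ha', hb'⟩⟩
  · exact ⟨e₁, f₁, e₂, f₂, a, b + a, ⟨h11, h22, by rw [map_add, hab, form_self hA, add_zero]⟩, ⟨a1, b1, a2, b2⟩,
      ⟨c1, by rw [map_add, d1, c1, add_zero], c2, by rw [map_add, d2, c2, add_zero]⟩,
      ⟨c3, by rw [map_add, s1, c3, add_zero], c4, by rw [map_add, s2, c4, add_zero]⟩,
      ⟨q1, q2, q3, q4⟩, Or.inl ⟨ha', by rw [map_add', hb', ha', hba]; rfl⟩⟩
  · exact ⟨e₁, f₁, e₂, f₂, a + b, b, ⟨h11, h22, by rw [map_add, LinearMap.add_apply, hab, form_self hA, add_zero]⟩,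
      ⟨a1, b1, a2, b2⟩, ⟨by rw [map_add, c1, d1, add_zero], d1, by rw [map_add, c2, d2, add_zero], d2⟩,
      ⟨by rw [map_add, c3, s1, add_zero], s1, by rw [map_add, c4, s2, add_zero], s2⟩,
      ⟨q1, q2, q3, q4⟩, Or.inl ⟨by rw [map_add', ha', hb', hab]; rfl, hb'⟩⟩
  · exact ⟨e₁, f₁, e₂, f₂, a, b, ⟨h11, h22, hab⟩, ⟨a1, b1, a2, b2⟩, ⟨c1, d1, c2, d2⟩, ⟨c3, s1, c4, s2⟩,
      ⟨q1, q2, q3, q4⟩, Or.inr ⟨ha', hb'⟩⟩

/-- Coordinates in which the form is the plus or the minus form. -/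
theorem exists_std (hN : (β).Nondegenerate) : ∃ E : (Fin 6 → ZMod 2) ≃ₗ[ZMod 2] (Fin 6 → ZMod 2),
    (∀ v w, β (E v) (E w) = bSix v w) ∧ ((∀ v, Q (E v) = qPlus v) ∨ ∀ v, Q (E v) = qMinus v) := by
  have hA : (β).IsAlt := polar_alt
  obtain ⟨e₁, f₁, e₂, f₂, a, b, ⟨h1, h2, h3⟩, ⟨g1, g2, g3, g4⟩, ⟨c1, c2, c3, c4⟩, ⟨k1, k2, k3, k4⟩,
    ⟨q1, q2, q3, q4⟩, hq⟩ := exists_frame hN
  set Φ : (Fin 6 → ZMod 2) →ₗ[ZMod 2] (Fin 6 → ZMod 2) :=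
    Fintype.linearCombination (ZMod 2) ![e₁, f₁, e₂, f₂, a, b] with hΦ
  have happ : ∀ v, Φ v = v 0 • e₁ + v 1 • f₁ + v 2 • e₂ + v 3 • f₂ + v 4 • a + v 5 • b := fun v => by
    simp [hΦ, Fintype.linearCombination_apply, Fin.sum_univ_six]
  have hB : ∀ v w, β (Φ v) (Φ w) = bSix v w := fun v w => by
    simp only [happ, map_add, map_smul, LinearMap.add_apply, LinearMap.smul_apply, smul_eq_mul, form_self hA,
      h1, h2, h3, g1, g2, g3, g4, c1, c2, c3, c4, k1, k2, k3, k4, (alt_symm hA f₁ e₁).trans h1,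
      (alt_symm hA f₂ e₂).trans h2, (alt_symm hA b a).trans h3, (alt_symm hA e₂ e₁).trans g1,
      (alt_symm hA f₂ e₁).trans g2, (alt_symm hA e₂ f₁).trans g3, (alt_symm hA f₂ f₁).trans g4,
      (alt_symm hA a e₁).trans c1, (alt_symm hA b e₁).trans c2, (alt_symm hA a f₁).trans c3,
      (alt_symm hA b f₁).trans c4, (alt_symm hA a e₂).trans k1, (alt_symm hA b e₂).trans k2,
      (alt_symm hA a f₂).trans k3, (alt_symm hA b f₂).trans k4, bSix]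
    ring
  have hinj : Function.Injective Φ := by
    rw [← LinearMap.ker_eq_bot, LinearMap.ker_eq_bot']
    intro v hv
    have : ∀ w, bSix v w = 0 := fun w => by rw [← hB, hv]; simp
    exact (by decide +kernel : ∀ v, (∀ i : Fin 6, bSix v (Pi.single i 1) = 0) → v = 0) v fun i => this _
  refine ⟨LinearEquiv.ofBijective Φ ⟨hinj, LinearMap.injective_iff_surjective.1 hinj⟩, hB, ?_⟩
  have hQ : ∀ v, Q (Φ v) = v 0 * v 1 + v 2 * v 3 + v 4 * v 4 * Q a + v 4 * v 5 + v 5 * v 5 * Q b := fun v => by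
    simp only [happ, map_add', map_add, map_smul, LinearMap.add_apply, LinearMap.smul_apply, smul_eq_mul,
      QuadraticMap.map_smul, h1, h2, h3, g1, g2, g3, g4, c1, c2, c3, c4, k1, k2, k3, k4, q1, q2, q3, q4]
    ring
  rcases hq with ⟨ha, hb⟩ | ⟨ha, hb⟩
  · exact Or.inl fun v => (hQ v).trans (by rw [ha, hb, qPlus]; ring)
  · exact Or.inr fun v => (hQ v).trans (by rw [ha, hb, qMinus]; ring)

end Cfsg.Lib.Fischer.Coinc
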