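import Cfsg.Agent.Fischer.ExclO

/-!
Packed tables matching the points of the small classical graphs.
-/

set_option autoImplicit false

namespace Cfsg.Lib.Fischer.Coinc

open Cfsg.Lib.PrimeGraph (KQuad)

/-- An entry of a packed table. -/
def pick (T bits i : ℕ) : ℕ := T >>> (bits * i) % 2 ^ bits

/-- Isotropic points over four elements, a representative each. -/
def uSrc : ℕ :=
  2327811215453144200610089642094807807937990487429655585878615522218241593471389290903170438273973709263900752

/-- The point of a vector over four elements. -/
def uIdx : ℕ :=
  620636406670891116191444565307826961953205726996953808003200241110457381261887290209668806293140488804683981437316793267806571428470245918243029748458232787209306547517300775740769527470713442280031142071194420696308658221079163051334657613820387405044705178981498798505858674422584683490823365961655486221118748215384573064605327725505729915646325262140488078982053893467682769486377146830248907891448173415997566834345172716560921339555428047555812148583071744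

/-- The vectors of norm one, up to sign, in the matching order. -/
def rTgt : ℕ :=
  402671889040224964888910214427356522950053358831522515583996327017422062099502574717689664431608757482380881

/-- The number of a vector of norm one. -/
def rIdx : ℕ :=
  973518769385502981197972026540022391813582730522300470624685310144199596947225536391619538572944251101756430579533383754374302983162152169975151830314027386099021676324704221857805914283100545656077464888678451375361544036761975454402262553325783616160217455902754473520630048213129637248540911988844515809893978791608958701391835341613867809817189574725074182916763141596538790587570501354074008109110107873514163495802816169249965568

/-- The points of value one of the minus form. -/
def mSrc : ℕ :=
  104482754926726222105857212752927416097695494534086387156868334624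

/-- The number of a point of value one of the minus form. -/
def mIdx : ℕ :=
  21547972147478525653810529545633074977914262333309745167184771308794465744072267980270668557137170456768820719124480

/-- The vectors of norm one of the second form, up to sign, in the matching order. -/
def nTgt : ℕ :=
  212788131210971767816300993086210844259356863435704527423831033658537354254258805090331

/-- The number of such a vector. -/
def nIdx : ℕ :=
  11067611881103248574674200907857298736177947316181543744093432500438229078538353737369365452135278751873300169732187085742758655443006566532607470920968853740630234694839966602959123154682976688111516250499207802544965923420054388751420370020314795508868572454135967360431090160435005679650047459164444412519545833327617669516129214578019792900095412759259696617271286764603638863135999483663042957423437266625563662708429632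

/-- The points of value one of the plus form. -/
def pSrc : ℕ :=
  370455149619485539440380162209887967374378412494384

/-- The number of a point of value one of the plus form. -/
def pIdx : ℕ :=
  1802239076293427440368251585453507644318974723015484106634802515998508642160177346944986381877248

/-- The pairs of eight letters as masks, in the matching order. -/
def sTgt : ℕ :=
  2133501260436353371481319453773357451188787385530707100170606349315

/-- The number of a pair given by its mask. -/
def sIdx : ℕ :=
  68217198079799993562473676715126318176133588003285076947867182577424078233785792514871890390935226192228116674915377059736918542043248867611242140579442138201837102735879223634840949124725061401793676988940284755878251185961728745098588516925823005884402326875432075172521467054437248794624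

end Cfsg.Lib.Fischer.Coinc
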